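import Groth.Agent.L02.CAlg.Tor.Vanish
import Groth.Agent.L02.TorFlip
import Groth.Agent.L28.Kun.Shift
import Groth.Agent.L10.DRing.TorDim
import Mathlib.RingTheory.Flat.TorsionFree
import Mathlib.RingTheory.Derivation.Basic

/-!
Tor over a hypersurface ring `R = B / (g)`: two-periodicity and annihilation by the derivatives of `g`.
-/

set_option autoImplicit false
set_option linter.style.haveILetI false
set_option backward.isDefEq.respectTransparency.types false

universe u

open CategoryTheory CategoryTheory.Limits TensorProduct L02.CAlg.TorV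

namespace Groth.L19.LocInt

variable {B R : Type u} [CommRing B] [CommRing R] [Algebra B R]

/-- `Tor_{i+1}(X, M) = 0` for all `i ≥ d`. -/
def FD (B : Type u) [CommRing B] (d : ℕ) (M : Type u) [AddCommGroup M] [Module B M] : Prop :=
  ∀ (X : Type u) [AddCommGroup X] [Module B X] (i : ℕ), d ≤ i → Van B X M i

theorem fd_of_hasTorDimLE {d : ℕ} {M : Type u} [AddCommGroup M] [Module B M] (h : DRing.HasTorDimLE B d M) :
    FD B d M := by
  intro X _ _ i hi
  haveI := h X (i + 1) (by omega)
  exact (isZero_tor_iff X M i).1 (IsZero.of_iso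
    (ModuleCat.isZero_of_subsingleton (ModuleCat.of B (DRing.Tor B (i + 1) M X)))
    (Groth.L02.TorFlip.flipIso (i + 1) (ModuleCat.of B X) (ModuleCat.of B M)))

theorem flat_of_fd_zero {M : Type u} [AddCommGroup M] [Module B M] (h : FD B 0 M) : Module.Flat B M := by
  refine Groth.L10.DR.hasTorDimLE_zero_iff.1 fun N _ _ p hp => ?_
  obtain ⟨i, rfl⟩ : ∃ i, p = i + 1 := ⟨p - 1, by omega⟩
  exact ModuleCat.subsingleton_of_isZero (IsZero.of_iso ((isZero_tor_iff N M i).2 (h N i (Nat.zero_le i)))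
    (Groth.L02.TorFlip.flipIso (i + 1) (ModuleCat.of B M) (ModuleCat.of B N)))

/-- Annihilation of `Tor` on cycles. -/
theorem smul_tor_eq_zero (N L : Type u) [AddCommGroup N] [Module R N] [AddCommGroup L] [Module R L] (i : ℕ) (x : R)
    (h : ∀ z, (d (A := R) N i).rTensor L z = 0 → ∃ y, (d (A := R) N (i + 1)).rTensor L y = x • z)
    (w : DRing.Tor R (i + 1) N L) : x • w = 0 := by
  obtain ⟨e⟩ := Groth.L28.TorFacts.nonempty_iso_left (M := ModuleCat.of R N) (N := ModuleCat.of R L)
    _ _ (isRes (A := R) N) (i + 1)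
  refine e.toLinearEquiv.injective ?_
  rw [map_smul, map_zero]
  generalize e.toLinearEquiv w = c
  obtain ⟨z, rfl⟩ := Groth.L28.HomElt.exists_cycle_π c
  rw [← map_smul, Groth.L28.HomElt.π_eq_zero_iff (i := i + 2) ((ComplexShape.down ℕ).prev_eq' rfl)]
  rw [map_smul]
  refine h _ ?_
  exact (ConcreteCategory.congr_hom (HomologicalComplex.iCycles_d _ (i + 1) i) z :)

variable {g : B} (hg : IsSMulRegular B g) (hsurj : Function.Surjective (algebraMap B R))
  (hker : RingHom.ker (algebraMap B R) = Ideal.span {g})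

section
include hsurj

theorem mk_surjective (X : Type u) [AddCommGroup X] [Module B X] :
    Function.Surjective (TensorProduct.mk B R X 1) := fun z => by
  induction z using TensorProduct.induction_on with
  | zero => exact ⟨0, map_zero _⟩
  | add u v hu hv =>
    obtain ⟨a, rfl⟩ := hu
    obtain ⟨b, rfl⟩ := hv
    exact ⟨a + b, map_add _ _ _⟩
  | tmul r x =>
    obtain ⟨b, rfl⟩ := hsurj r
    refine ⟨b • x, ?_⟩
    rw [TensorProduct.mk_apply, ← TensorProduct.smul_tmul, Algebra.smul_def, mul_one]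

end

include hsurj hker

theorem g_smul_eq_zero {X : Type u} [AddCommGroup X] [Module B X] [Module R X] [IsScalarTower B R X] (x : X) :
    g • x = 0 := by
  have h0 : algebraMap B R g = 0 := by rw [← RingHom.mem_ker, hker]; exact Ideal.mem_span_singleton_self g
  rw [← algebraMap_smul R g x, h0, zero_smul]

theorem mk_eq_zero_iff {X : Type u} [AddCommGroup X] [Module B X] (x : X) :
    (1 : R) ⊗ₜ[B] x = 0 ↔ ∃ x', g • x' = x := by
  have hex : Function.Exact (LinearMap.lsmul B B g) (Algebra.linearMap B R) := fun b => by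
    rw [show Algebra.linearMap B R b = algebraMap B R b from rfl, ← RingHom.mem_ker, hker, Ideal.mem_span_singleton']
    exact ⟨fun ⟨c, hc⟩ => ⟨c, (mul_comm g c).trans hc⟩, fun ⟨c, hc⟩ => ⟨c, (mul_comm c g).trans hc⟩⟩
  have key := rTensor_exact X hex (show Function.Surjective (Algebra.linearMap B R) from hsurj) ((1 : B) ⊗ₜ[B] x)
  rw [LinearMap.rTensor_tmul, Algebra.linearMap_apply, map_one] at key
  rw [key]
  constructor
  · rintro ⟨z, hz⟩
    obtain ⟨x', rfl⟩ := (TensorProduct.lid B X).symm.surjective z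
    refine ⟨x', (TensorProduct.lid B X).symm.injective ?_⟩
    rw [map_smul, TensorProduct.lid_symm_apply, TensorProduct.lid_symm_apply, ← hz, TensorProduct.lid_symm_apply,
      LinearMap.rTensor_tmul, LinearMap.lsmul_apply, TensorProduct.smul_tmul']
  · rintro ⟨x', rfl⟩
    exact ⟨(1 : B) ⊗ₜ[B] x', by rw [LinearMap.rTensor_tmul, LinearMap.lsmul_apply, TensorProduct.smul_tmul]⟩

include hg

/-- A module killed by `g` of tor dimension at most one over `B`: periodicity, and the derivatives kill `Tor`. -/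
theorem core (L : Type u) [AddCommGroup L] [Module B L] [Module R L] [IsScalarTower B R L] (hL : FD B 1 L)
    (N : Type u) [AddCommGroup N] [Module R N] :
    (∀ i, Nonempty (DRing.Tor R (i + 3) N L ≃ₗ[R] DRing.Tor R (i + 1) N L)) ∧
      ∀ (D : B → B), (∀ a b, D (a + b) = D a + D b) → (∀ a b, D (a * b) = a * D b + b * D a) →
        ∀ (i : ℕ) (w : DRing.Tor R (i + 1) N L), algebraMap B R (D g) • w = 0 := by
  classical
  let π : (L →₀ B) →ₗ[B] L := Finsupp.linearCombination B (id : L → L)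
  have hπ : Function.Surjective π := Finsupp.linearCombination_id_surjective B L
  let K := LinearMap.ker π
  haveI : Module.Flat B K := flat_of_fd_zero fun X _ _ i _ =>
    Van.left (N' := ↥K) (f := K.subtype) (g := π) Subtype.val_injective hπ (LinearMap.exact_subtype_ker_map π)
      (van_of_flat_right (L →₀ B) i) (hL X (i + 1) (by omega))
  have hgπ : ∀ y, g • y ∈ K := fun y => by
    rw [LinearMap.mem_ker, map_smul]; exact g_smul_eq_zero hsurj hker (π y)
  let RF := R ⊗[B] (L →₀ B)
  let RK := R ⊗[B] ↥K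
  let ι : RK →ₗ[R] RF := K.subtype.baseChange R
  let ψ : RF →ₗ[R] L := π.liftBaseChange R
  have hψ1 : ∀ y, ψ ((1 : R) ⊗ₜ y) = π y := fun y => (LinearMap.liftBaseChange_tmul _ _ _ _).trans (one_smul R _)
  have hψ : Function.Surjective ψ := fun l => by
    obtain ⟨y, rfl⟩ := hπ l
    exact ⟨1 ⊗ₜ y, hψ1 y⟩
  let Q := LinearMap.ker ψ
  let δ0 : (L →₀ B) →ₗ[B] RK :=
    (TensorProduct.mk B R K 1).comp (LinearMap.codRestrict K (LinearMap.lsmul B _ g) hgπ)
  have hδ0 : ∀ y, δ0 y = (1 : R) ⊗ₜ[B] (⟨g • y, hgπ y⟩ : K) := fun y => rfl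
  have hδK : K ≤ LinearMap.ker δ0 := fun k hk => by
    exact (mk_eq_zero_iff hsurj hker (X := ↥K) _).2 ⟨⟨k, hk⟩, rfl⟩
  let δB : L →ₗ[B] RK := (K.liftQ δ0 hδK).comp (π.quotKerEquivOfSurjective hπ).symm.toLinearMap
  have hδ : ∀ y, δB (π y) = δ0 y := fun y => by
    show K.liftQ δ0 hδK ((π.quotKerEquivOfSurjective hπ).symm (π y)) = _
    rw [show (π.quotKerEquivOfSurjective hπ).symm (π y) = Submodule.Quotient.mk y from by
      rw [LinearEquiv.symm_apply_eq]; rfl]
    rfl
  let δ : L →ₗ[R] RK := δB.extendScalarsOfSurjective hsurj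
  have hδinj : Function.Injective δ := by
    rw [injective_iff_map_eq_zero]
    intro l hl
    obtain ⟨y, rfl⟩ := hπ l
    have hl' : δ0 y = 0 := (hδ y).symm.trans hl
    obtain ⟨k, hk⟩ := (mk_eq_zero_iff hsurj hker (X := ↥K) _).1 ((hδ0 y).symm.trans hl')
    have h' : g • ((k : L →₀ B) - y) = 0 := by
      rw [smul_sub, sub_eq_zero]; exact congrArg Subtype.val hk
    have h'' : (k : L →₀ B) - y = 0 := Finsupp.ext fun a => hg (by
      simpa using DFunLike.congr_fun h' a)
    rw [← sub_eq_zero.1 h'']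
    exact k.2
  let ρ : RK →ₗ[R] Q := LinearMap.codRestrict Q ι fun z => by
    obtain ⟨k, rfl⟩ := mk_surjective hsurj K z
    rw [LinearMap.mem_ker]
    show ψ ((1 : R) ⊗ₜ (k : L →₀ B)) = 0
    rw [hψ1]; exact k.2
  have hρ : Function.Surjective ρ := fun q => by
    obtain ⟨y, hy⟩ := mk_surjective hsurj (L →₀ B) q.1
    have : π y = 0 := by rw [← hψ1]; exact (congrArg ψ hy).trans q.2
    exact ⟨1 ⊗ₜ ⟨y, this⟩, Subtype.ext hy⟩
  have hδρ : Function.Exact δ ρ := fun z => by
    obtain ⟨k, rfl⟩ := mk_surjective hsurj K z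
    refine ⟨fun hz => ?_, ?_⟩
    · have h1 : (1 : R) ⊗ₜ[B] (k : L →₀ B) = 0 := congrArg Subtype.val hz
      obtain ⟨y, hy⟩ := (mk_eq_zero_iff hsurj hker _).1 h1
      exact ⟨π y, (hδ y).trans ((hδ0 y).trans (congrArg (fun v : K => (1 : R) ⊗ₜ[B] v) (Subtype.ext hy)))⟩
    · rintro ⟨l, hl⟩
      obtain ⟨y, rfl⟩ := hπ l
      rw [← hl, show δ (π y) = _ from (hδ y).trans (hδ0 y)]
      exact Subtype.ext ((mk_eq_zero_iff hsurj hker _).2 ⟨y, rfl⟩)
  refine ⟨fun i => ?_, fun D hD hDm i w => ?_⟩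
  · obtain ⟨e₁⟩ := Groth.L28.Kun.nonempty_tor_succ (A := R) (K := ↥Q) N Q.subtype ψ Subtype.val_injective
      (LinearMap.exact_subtype_ker_map ψ) hψ (i + 1)
    obtain ⟨e₂⟩ := Groth.L28.Kun.nonempty_tor_succ (A := R) (G := RK) (H := ↥Q) N δ ρ hδinj hδρ hρ i
    exact ⟨e₁.trans e₂⟩
  · have hD0 : D 0 = 0 := by simpa using hD 0 0
    have hDgmul : ∀ b, D (g * b) = g * D b + b * D g := fun b => hDm g b
    let conn : (L →₀ B) → (L →₀ B) := fun y => Finsupp.mapRange D hD0 y
    have hconn_add : ∀ y z, conn (y + z) = conn y + conn z := fun y z => Finsupp.mapRange_add hD y z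
    have hconn_smul : ∀ (b : B) y, conn (b • y) = b • conn y + D b • y := fun b y => Finsupp.ext fun a => by
      simp [conn, hDm, mul_comm (D b)]
    let θ0 : K →ₗ[B] L :=
      { toFun := fun k => π (conn k)
        map_add' := fun k k' => by rw [Submodule.coe_add, hconn_add, map_add]
        map_smul' := fun b k => by
          rw [Submodule.coe_smul, hconn_smul, map_add, map_smul, map_smul, k.2, smul_zero, add_zero]; rfl }
    let θ : RK →ₗ[R] L := θ0.liftBaseChange R
    have hθδ : θ ∘ₗ δ = algebraMap B R (D g) • LinearMap.id := LinearMap.ext fun l => by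
      obtain ⟨y, rfl⟩ := hπ l
      show θ (δ (π y)) = algebraMap B R (D g) • π y
      rw [show δ (π y) = _ from (hδ y).trans (hδ0 y), algebraMap_smul]
      show θ0.liftBaseChange R ((1 : R) ⊗ₜ[B] _) = _
      rw [LinearMap.liftBaseChange_tmul, one_smul]
      show π (conn (g • y)) = _
      rw [hconn_smul, map_add, map_smul, map_smul, g_smul_eq_zero hsurj hker, zero_add]
    refine smul_tor_eq_zero N L i _ (fun z hz => ?_) w
    obtain ⟨v, hv⟩ := (van_of_flat_right (A := R) (M := N) RK i) (δ.lTensor _ z) (by rw [comm_map, hz, map_zero])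
    refine ⟨θ.lTensor _ v, ?_⟩
    rw [comm_map, hv, ← LinearMap.lTensor_comp_apply, hθδ, LinearMap.lTensor_smul, LinearMap.lTensor_id]
    rfl

theorem fd_free (ι : Type u) (X : Type u) [AddCommGroup X] [Module B X] (i : ℕ) (hi : 1 ≤ i) :
    Van B X (ι →₀ R) i := by
  obtain ⟨j, rfl⟩ : ∃ j, i = j + 1 := ⟨i - 1, by omega⟩
  refine Van.finsupp ?_ ι
  refine Van.right (f := LinearMap.lsmul B B g) (g := Algebra.linearMap B R) (fun a b h => hg h) hsurj ?_
    (van_of_flat_right B (j + 1)) (van_of_flat_right B j)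
  intro b
  rw [show Algebra.linearMap B R b = algebraMap B R b from rfl, ← RingHom.mem_ker, hker, Ideal.mem_span_singleton']
  exact ⟨fun ⟨c, hc⟩ => ⟨c, (mul_comm g c).trans hc⟩, fun ⟨c, hc⟩ => ⟨c, (mul_comm c g).trans hc⟩⟩

/-- Reduction to a module of tor dimension at most one. -/
theorem exists_syzygy (N : Type u) [AddCommGroup N] [Module R N] : ∀ (d : ℕ) (M : Type u) [AddCommGroup M]
    [Module B M] [Module R M] [IsScalarTower B R M], FD B (d + 1) M →
    ∃ (L : Type u) (_ : AddCommGroup L) (_ : Module B L) (_ : Module R L) (_ : IsScalarTower B R L),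
      FD B 1 L ∧ ∀ i, Nonempty (DRing.Tor R (d + i + 1) N M ≃ₗ[R] DRing.Tor R (i + 1) N L) := by
  intro d
  induction d with
  | zero =>
    intro M _ _ _ _ h
    refine ⟨M, inferInstance, inferInstance, inferInstance, inferInstance, h, fun i => ⟨?_⟩⟩
    rw [Nat.zero_add]
  | succ d ih =>
    intro M _ _ _ _ h
    let p : (M →₀ R) →ₗ[R] M := Finsupp.linearCombination R (id : M → M)
    have hp : Function.Surjective p := Finsupp.linearCombination_id_surjective R M
    have hK : FD B (d + 1) (LinearMap.ker p) := fun X _ _ i hi =>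
      Van.left (N' := ↥(LinearMap.ker p)) (f := ((LinearMap.ker p).subtype).restrictScalars B)
        (g := p.restrictScalars B) Subtype.val_injective hp (LinearMap.exact_subtype_ker_map p)
        (fd_free hg hsurj hker M X i (by omega)) (h X (i + 1) (by omega))
    obtain ⟨L, _, _, _, _, hL, he⟩ := ih (LinearMap.ker p) hK
    refine ⟨L, inferInstance, inferInstance, inferInstance, inferInstance, hL, fun i => ?_⟩
    obtain ⟨e₁⟩ := Groth.L28.Kun.nonempty_tor_succ (A := R) (K := ↥(LinearMap.ker p)) N (LinearMap.ker p).subtype p Subtype.val_injective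
      (LinearMap.exact_subtype_ker_map p) hp (d + i)
    obtain ⟨e₂⟩ := he i
    exact ⟨(show DRing.Tor R (d + 1 + i + 1) N M ≃ₗ[R] DRing.Tor R (d + i + 2) N M by
      rw [show d + 1 + i + 1 = d + i + 2 by omega]).trans (e₁.trans e₂)⟩

theorem subsingleton_of_flat {M : Type u} [AddCommGroup M] [Module B M] [Module R M] [IsScalarTower B R M]
    (h : FD B 0 M) : Subsingleton M := by
  haveI := flat_of_fd_zero h
  refine subsingleton_of_forall_eq 0 fun x => ?_
  have hreg : IsSMulRegular M g := Module.Flat.isSMulRegular_of_nonZeroDivisors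
    (mem_nonZeroDivisors_iff.2 ⟨fun a ha => hg (by simpa using ha), fun a ha => hg (by simpa [mul_comm] using ha)⟩)
  exact hreg ((g_smul_eq_zero hsurj hker x).trans (g_smul_eq_zero hsurj hker (0 : M)).symm)

theorem tor_periodic {d : ℕ} (M : Type u) [AddCommGroup M] [Module B M] [Module R M] [IsScalarTower B R M]
    (h : FD B (d + 1) M) (N : Type u) [AddCommGroup N] [Module R N] (q : ℕ) (hq : d + 3 ≤ q) :
    Nonempty (DRing.Tor R q N M ≃ₗ[R] DRing.Tor R (q - 2) N M) := by
  obtain ⟨L, _, _, _, _, hL, he⟩ := exists_syzygy hg hsurj hker N d M h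
  obtain ⟨i, rfl⟩ : ∃ i, q = d + (i + 2) + 1 := ⟨q - (d + 3), by omega⟩
  obtain ⟨e₁⟩ := he (i + 2)
  obtain ⟨e₂⟩ := (core hg hsurj hker L hL N).1 i
  obtain ⟨e₃⟩ := he i
  rw [show d + (i + 2) + 1 - 2 = d + i + 1 by omega]
  exact ⟨e₁.trans (e₂.trans e₃.symm)⟩

theorem tor_annihilated {d : ℕ} (M : Type u) [AddCommGroup M] [Module B M] [Module R M] [IsScalarTower B R M]
    (h : FD B (d + 1) M) (N : Type u) [AddCommGroup N] [Module R N] (D : B → B)
    (hD : ∀ a b, D (a + b) = D a + D b) (hDm : ∀ a b, D (a * b) = a * D b + b * D a) (q : ℕ) (hq : d + 1 ≤ q)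
    (w : DRing.Tor R q N M) : algebraMap B R (D g) • w = 0 := by
  obtain ⟨L, _, _, _, _, hL, he⟩ := exists_syzygy hg hsurj hker N d M h
  obtain ⟨i, rfl⟩ : ∃ i, q = d + i + 1 := ⟨q - (d + 1), by omega⟩
  obtain ⟨e⟩ := he i
  refine e.injective ?_
  rw [map_smul, map_zero]
  exact (core hg hsurj hker L hL N).2 D hD hDm i (e w)

end Groth.L19.LocInt
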