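import Mathlib.LinearAlgebra.ExteriorPower.Basic
import Mathlib.LinearAlgebra.Determinant
import Mathlib.LinearAlgebra.Matrix.Determinant.Basic
import Mathlib.RingTheory.Spectrum.Prime.FreeLocus
import Mathlib.RingTheory.Localization.Module
import Mathlib.LinearAlgebra.StdBasis
import Mathlib.RingTheory.Ideal.Quotient.Defs

/-!
# The cokernel of `R → Rⁿ` given by a vector
-/

set_option autoImplicit false
set_option linter.style.haveILetI false

universe u

open scoped BigOperators

namespace Groth.L19.TopWedge

variable {R : Type u} [CommRing R] {n : ℕ} (a : Fin n → R)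

/-- The cokernel of `1 ↦ a`. -/
abbrev Coker : Type u := (Fin n → R) ⧸ Submodule.span R {a}

theorem smul_eq_zero (i : Fin n) (z : ⋀[R]^n (Coker a)) : a i • z = 0 := by
  classical
  let q : (Fin n → R) →ₗ[R] Coker a := (Submodule.span R {a}).mkQ
  let G : (Fin n → R) [⋀^Fin n]→ₗ[R] ⋀[R]^n (Coker a) := (exteriorPower.ιMulti R n).compLinearMap q
  let b := Pi.basisFun R (Fin n)
  have hGv : ∀ v, G v = b.det v • G b := by
    intro v
    refine DFunLike.congr_fun (Module.Basis.ext_alternating b (f := G)
      (g := (LinearMap.toSpanSingleton R _ (G b)).compAlternatingMap b.det) fun i h => ?_) v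
    let σ : Equiv.Perm (Fin n) := Equiv.ofBijective i (Finite.injective_iff_bijective.mp h)
    show G (b ∘ σ) = b.det (b ∘ σ) • G b
    rw [G.map_perm, b.det.map_perm, b.det_self, smul_assoc, one_smul]
  have hdet : b.det (Function.update b i a) = a i := by
    conv_lhs => rw [← b.sum_repr a]
    rw [AlternatingMap.map_update_sum, Finset.sum_eq_single i]
    · rw [AlternatingMap.map_update_smul, Function.update_eq_self, Module.Basis.det_self, smul_eq_mul, mul_one,
        Pi.basisFun_repr]
    · intro j _ hj
      rw [AlternatingMap.map_update_smul, AlternatingMap.map_update_self _ _ hj.symm, smul_zero]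
    · exact fun h => absurd (Finset.mem_univ i) h
  have hG : a i • G b = 0 := by
    have h := hGv (Function.update b i a)
    rw [hdet] at h
    rw [← h]
    exact (exteriorPower.ιMulti R n).map_coord_zero i (by
      show q (Function.update b i a i) = 0
      rw [Function.update_self]
      exact (Submodule.Quotient.mk_eq_zero _).mpr (Submodule.mem_span_singleton_self a))
  have hz : z ∈ Submodule.span R (Set.range (exteriorPower.ιMulti R n (M := Coker a))) := by
    rw [exteriorPower.ιMulti_span]
    exact Submodule.mem_top
  induction hz using Submodule.span_induction with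
  | zero => exact smul_zero _
  | add x y _ _ hx hy => rw [smul_add, hx, hy, add_zero]
  | smul r x _ hx => rw [smul_comm, hx, smul_zero]
  | mem x hx =>
    obtain ⟨f, rfl⟩ := hx
    choose v hv using fun k => Submodule.Quotient.mk_surjective (Submodule.span R {a}) (f k)
    rw [show exteriorPower.ιMulti R n f = G v from congrArg _ (funext fun k => (hv k).symm), hGv v,
      smul_comm, hG, smul_zero]

theorem annihilator_eq : (⋀[R]^n (Coker a)).annihilator = Ideal.span (Set.range a) := by
  classical
  refine le_antisymm (fun r hr => ?_) (Ideal.span_le.mpr ?_)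
  · set I := Ideal.span (Set.range a) with hI
    let red : (Fin n → R) →ₗ[R] (Fin n → R ⧸ I) := (Algebra.linearMap R (R ⧸ I)).compLeft (Fin n)
    have hred : Submodule.span R {a} ≤ LinearMap.ker red := by
      rw [Submodule.span_singleton_le_iff_mem, LinearMap.mem_ker]
      funext j
      exact Ideal.Quotient.eq_zero_iff_mem.mpr (Ideal.subset_span ⟨j, rfl⟩)
    let ρ : Coker a →ₗ[R] (Fin n → R ⧸ I) := (Submodule.span R {a}).liftQ red hred
    let d : (Fin n → (R ⧸ I)) [⋀^Fin n]→ₗ[R] (R ⧸ I) :=
      { toFun := fun v => (Matrix.detRowAlternating (R := R ⧸ I) (n := Fin n)) v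
        map_update_add' := fun {inst} v i x y => by
          obtain rfl : inst = instDecidableEqFin n := Subsingleton.elim _ _
          exact Matrix.detRowAlternating.map_update_add v i x y
        map_update_smul' := fun {inst} v i c x => by
          obtain rfl : inst = instDecidableEqFin n := Subsingleton.elim _ _
          have := Matrix.detRowAlternating.map_update_smul v i (algebraMap R (R ⧸ I) c) x
          rw [algebraMap_smul, algebraMap_smul] at this
          exact this
        map_eq_zero_of_eq' := fun v i j h hij => Matrix.detRowAlternating.map_eq_zero_of_eq v h hij }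
    let L := exteriorPower.alternatingMapLinearEquiv (d.compLinearMap ρ)
    let e : Fin n → Coker a := fun k => Submodule.Quotient.mk (Pi.single k 1)
    have h1 : L (exteriorPower.ιMulti R n e) = 1 := by
      rw [exteriorPower.alternatingMapLinearEquiv_apply_ιMulti]
      show Matrix.det (Matrix.of fun k => ρ (e k)) = 1
      rw [show (Matrix.of fun k => ρ (e k)) = (1 : Matrix (Fin n) (Fin n) (R ⧸ I)) from ?_, Matrix.det_one]
      ext k j
      show algebraMap R (R ⧸ I) ((Pi.single k (1 : R) : Fin n → R) j) = _
      rcases eq_or_ne k j with rfl | h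
      · simp
      · simp [Pi.single_eq_of_ne (Ne.symm h), Matrix.one_apply_ne h]
    have h2 := congrArg L (Module.mem_annihilator.mp hr (exteriorPower.ιMulti R n e))
    rw [map_smul, h1, map_zero, ← Algebra.algebraMap_eq_smul_one] at h2
    exact Ideal.Quotient.eq_zero_iff_mem.mp h2
  · rintro _ ⟨i, rfl⟩
    exact Module.mem_annihilator.mpr (smul_eq_zero a i)

theorem free_rank (p : PrimeSpectrum R) (hp : ¬ Ideal.span (Set.range a) ≤ p.asIdeal) :
    p ∈ Module.freeLocus R (Coker a) ∧ Module.rankAtStalk (Coker a) p = n - 1 := by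
  classical
  obtain ⟨i, hi⟩ : ∃ i, a i ∉ p.asIdeal := by
    by_contra h
    push Not at h
    exact hp (Ideal.span_le.mpr (Set.range_subset_iff.mpr h))
  let S := p.asIdeal.primeCompl
  let Rp := Localization.AtPrime p.asIdeal
  let u : Rpˣ := (IsLocalization.map_units Rp (⟨a i, hi⟩ : S)).unit
  have hu : (u : Rp) = algebraMap R Rp (a i) := IsUnit.unit_spec _
  let ψ₀ : (Fin n → R) →ₗ[R] ({j : Fin n // j ≠ i} → Rp) :=
    LinearMap.pi fun j => (Algebra.linearMap R Rp) ∘ₗ LinearMap.proj j.1 -
      ((↑u⁻¹ : Rp) * algebraMap R Rp (a j.1)) • ((Algebra.linearMap R Rp) ∘ₗ LinearMap.proj i)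
  have hψ₀ : ∀ x j, ψ₀ x j =
      algebraMap R Rp (x j.1) - (↑u⁻¹ : Rp) * algebraMap R Rp (a j.1) * algebraMap R Rp (x i) :=
    fun x j => rfl
  have hle : Submodule.span R {a} ≤ LinearMap.ker ψ₀ := by
    rw [Submodule.span_singleton_le_iff_mem, LinearMap.mem_ker]
    funext j
    rw [hψ₀, ← hu, mul_right_comm, Units.inv_mul, one_mul, sub_self]
    rfl
  let ψ : Coker a →ₗ[R] ({j : Fin n // j ≠ i} → Rp) := (Submodule.span R {a}).liftQ ψ₀ hle
  haveI : IsLocalizedModule S ψ :=
    { map_units := fun s => by
        rw [Module.End.isUnit_iff]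
        obtain ⟨w, hw⟩ := IsLocalization.map_units Rp s
        have hs : ∀ x : {j : Fin n // j ≠ i} → Rp,
            (algebraMap R (Module.End R ({j : Fin n // j ≠ i} → Rp)) s) x = (w : Rp) • x := fun x => by
          rw [Module.algebraMap_end_apply, hw, algebraMap_smul]
        constructor
        · intro x y h
          rw [hs, hs] at h
          exact (Units.isUnit w).smul_left_cancel.mp h
        · exact fun x => ⟨(↑w⁻¹ : Rp) • x, by rw [hs, smul_smul, Units.mul_inv, one_smul]⟩
      surj := fun y => by
        obtain ⟨s, hs⟩ := IsLocalization.exist_integer_multiples_of_finite S y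
        choose z hz using hs
        let x : Fin n → R := fun j => if h : j ≠ i then z ⟨j, h⟩ else 0
        refine ⟨(Submodule.Quotient.mk x, s), funext fun j => ?_⟩
        show s • y j = ψ₀ x j
        rw [hψ₀, show x i = 0 by simp [x], map_zero, mul_zero, sub_zero,
          show x j.1 = z j by simp [x, j.2], hz j]
        rfl
      exists_of_eq := fun {x y} h => by
        obtain ⟨x, rfl⟩ := Submodule.Quotient.mk_surjective _ x
        obtain ⟨y, rfl⟩ := Submodule.Quotient.mk_surjective _ y
        have hd : ∀ j : Fin n, ∃ s : S,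
            (s : R) * (a i * (x j - y j) - a j * (x i - y i)) = 0 := fun j => by
          refine (IsLocalization.map_eq_zero_iff S Rp _).mp ?_
          rcases eq_or_ne j i with rfl | hj
          · simp
          have h0 := congrFun h ⟨j, hj⟩
          change ψ₀ x ⟨j, hj⟩ = ψ₀ y ⟨j, hj⟩ at h0
          rw [hψ₀, hψ₀] at h0
          simp only [map_sub, map_mul, ← hu]
          linear_combination (u : Rp) * h0 +
            algebraMap R Rp (a j) * (algebraMap R Rp (x i) - algebraMap R Rp (y i)) * Units.mul_inv u
        choose s hs using hd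
        refine ⟨(∏ j, s j) * ⟨a i, hi⟩, ?_⟩
        rw [Submonoid.smul_def, ← Submodule.Quotient.mk_smul, ← Submodule.Quotient.mk_smul,
          Submodule.Quotient.eq, Submodule.mem_span_singleton]
        refine ⟨((∏ j, s j : S) : R) * (x i - y i), funext fun j => ?_⟩
        have hdvd : (s j : R) ∣ ((∏ j, s j : S) : R) := by
          rw [Submonoid.coe_finsetProd]
          exact Finset.dvd_prod_of_mem _ (Finset.mem_univ j)
        obtain ⟨t, ht⟩ := hdvd
        simp only [Submonoid.smul_def, Submonoid.coe_mul, Pi.smul_apply, Pi.sub_apply, smul_eq_mul, ht]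
        linear_combination -t * hs j }
  let e : LocalizedModule S (Coker a) ≃ₗ[R] ({j : Fin n // j ≠ i} → Rp) := IsLocalizedModule.iso S ψ
  let e' : LocalizedModule S (Coker a) ≃ₗ[Rp] ({j : Fin n // j ≠ i} → Rp) :=
    LinearEquiv.extendScalarsOfIsLocalization S Rp e
  refine ⟨Module.Free.of_equiv e'.symm, ?_⟩
  show Module.finrank Rp (LocalizedModule S (Coker a)) = n - 1
  rw [e'.finrank_eq, Module.finrank_pi, Fintype.card_subtype_compl, Fintype.card_subtype_eq, Fintype.card_fin]

end Groth.L19.TopWedge
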