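import Groth.Agent.Lead.SmoothAmp
import Groth.Agent.L10.DRing.TorDim
import Groth.Agent.L10.DRing.TorRestrict
import Groth.Agent.L07.CMInterAlg
import Groth.Agent.L02.CAlg.Tor.Vanish
import Groth.Agent.L02.TorFlip
import Mathlib.RingTheory.Smooth.StandardSmoothOfFree
import Mathlib.RingTheory.Spectrum.Prime.FreeLocus

/-!
Tor dimension over a smooth algebra of relative dimension `n`, in terms of tor dimension over the base.
-/

set_option autoImplicit false
set_option linter.style.haveILetI false
set_option backward.isDefEq.respectTransparency false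
set_option backward.isDefEq.respectTransparency.types false

universe u

open CategoryTheory CategoryTheory.Limits TensorProduct

attribute [local instance] HasDerivedCategory.standard

namespace Groth.L19.LocInt

section FlatTensor

variable {A B : Type u} [CommRing A] [CommRing B] [Algebra A B]

/-- Extension along a flat algebra over `B` preserves tor dimension over `A`. -/
theorem hasTorDimLE_flat_tensor (L : Type u) [CommRing L] [Algebra A L] [Algebra B L] [IsScalarTower A B L]
    [Module.Flat B L] (M : Type u) [AddCommGroup M] [Module A M] [Module B M] [IsScalarTower A B M] (d : ℕ)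
    (h : DRing.HasTorDimLE A d M) : DRing.HasTorDimLE A d (L ⊗[B] M) := by
  intro N _ _ p hp
  obtain ⟨n, rfl⟩ : ∃ n : ℕ, p = n + 1 := ⟨p - 1, by omega⟩
  refine ModuleCat.subsingleton_of_isZero ?_
  let P := projectiveResolution (ModuleCat.of A N)
  haveI := h N (n + 1) hp
  have hM := (Groth.L10.TorRestrict.tor_isZero_iff (ModuleCat.of A M) (ModuleCat.of A N) P n).1
    (ModuleCat.isZero_of_subsingleton _)
  refine (Groth.L10.TorRestrict.tor_isZero_iff (ModuleCat.of A (L ⊗[B] M)) (ModuleCat.of A N) P n).2 ?_
  let f : P.complex.X (n + 2) →ₗ[A] P.complex.X (n + 1) := (P.complex.d (n + 2) (n + 1)).hom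
  let g : P.complex.X (n + 1) →ₗ[A] P.complex.X n := (P.complex.d (n + 1) n).hom
  have hgf : g ∘ₗ f = 0 := congrArg ModuleCat.Hom.hom (P.complex.d_comp_d (n + 2) (n + 1) n)
  let fB : M ⊗[A] P.complex.X (n + 2) →ₗ[B] M ⊗[A] P.complex.X (n + 1) :=
    TensorProduct.AlgebraTensorModule.lTensor B M f
  let gB : M ⊗[A] P.complex.X (n + 1) →ₗ[B] M ⊗[A] P.complex.X n :=
    TensorProduct.AlgebraTensorModule.lTensor B M g
  have hex : Function.Exact fB gB := by
    intro x
    refine ⟨fun hx => hM x hx, ?_⟩
    rintro ⟨y, rfl⟩
    show g.lTensor M (f.lTensor M y) = 0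
    rw [← LinearMap.comp_apply, ← LinearMap.lTensor_comp, hgf]
    simp
  have hL := Module.Flat.lTensor_exact L hex
  let E : ∀ k : ℕ, (L ⊗[B] M) ⊗[A] P.complex.X k ≃ₗ[B] L ⊗[B] (M ⊗[A] P.complex.X k) := fun k =>
    TensorProduct.AlgebraTensorModule.assoc A B B L M (P.complex.X k)
  have hsq : ∀ (k l : ℕ) (φ : P.complex.X k →ₗ[A] P.complex.X l) (z : (L ⊗[B] M) ⊗[A] P.complex.X k),
      E l (φ.lTensor (L ⊗[B] M) z) = (TensorProduct.AlgebraTensorModule.lTensor B M φ).lTensor L (E k z) := by
    intro k l φ z
    induction z using TensorProduct.induction_on with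
    | zero => simp
    | add u v hu hv => simp [map_add, hu, hv]
    | tmul w x =>
      induction w using TensorProduct.induction_on with
      | zero => simp
      | add u v hu hv => rw [TensorProduct.add_tmul, map_add, map_add, hu, hv, map_add, map_add]
      | tmul s m => simp [E]
  intro x hx
  have hx' : gB.lTensor L (E (n + 1) x) = 0 := by
    rw [← hsq, show g.lTensor (L ⊗[B] M) x = 0 from hx, map_zero]
  obtain ⟨y, hy⟩ := (hL (E (n + 1) x)).1 hx'
  obtain ⟨y, rfl⟩ := (E (n + 2)).surjective y
  exact ⟨y, (E (n + 1)).injective (by rw [hsq]; exact hy)⟩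

end FlatTensor

variable {A B : Type u} [CommRing A] [CommRing B] [Algebra A B] [Algebra.Smooth A B]

/-- A standard smooth basic open around a prime, of the given relative dimension. -/
theorem exists_std (n : ℕ) (hn : ∀ p : PrimeSpectrum B, Module.rankAtStalk (Ω[B⁄A]) p = n)
    (q : Ideal B) [q.IsPrime] : ∃ t : B, t ∉ q ∧
      Algebra.IsStandardSmoothOfRelativeDimension n A (Localization.Away t) := by
  obtain ⟨s, hs, hst⟩ := Algebra.Smooth.exists_span_eq_top_isStandardSmooth (R := A) (S := B)
  obtain ⟨t, hts, htq⟩ : ∃ t ∈ s, t ∉ q := by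
    by_contra hne
    push Not at hne
    exact (inferInstance : q.IsPrime).ne_top (top_unique (hs ▸ Ideal.span_le.2 hne))
  refine ⟨t, htq, ?_⟩
  haveI := hst t hts
  obtain ⟨x, hx⟩ : (⟨q, inferInstance⟩ : PrimeSpectrum B) ∈
      Set.range (PrimeSpectrum.comap (algebraMap B (Localization.Away t))) := by
    rw [PrimeSpectrum.localization_away_comap_range (Localization.Away t) t]
    exact htq
  haveI : Nontrivial (Localization.Away t) := x.nontrivial
  rw [Algebra.IsStandardSmoothOfRelativeDimension.iff_of_isStandardSmooth]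
  have h1 : Module.rankAtStalk (Localization.Away t ⊗[B] Ω[B⁄A]) x = n := by
    rw [Module.rankAtStalk_baseChange]
    exact hn _
  rw [Module.rankAtStalk_eq_of_equiv (KaehlerDifferential.tensorKaehlerEquivOfFormallyEtale A B (Localization.Away t)),
    Module.rankAtStalk_eq_finrank_of_free, Pi.natCast_apply] at h1
  rw [← Module.finrank_eq_rank]
  exact_mod_cast h1

/-- Tor dimension at most `m` over the base gives at most `m + n` over a smooth algebra of relative dimension `n`. -/
theorem hasTorDimLE_smooth (n : ℕ) (hn : ∀ p : PrimeSpectrum B, Module.rankAtStalk (Ω[B⁄A]) p = n)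
    (M : Type u) [AddCommGroup M] [Module A M] [Module B M] [IsScalarTower A B M] (m : ℕ)
    (h : DRing.HasTorDimLE A m M) : DRing.HasTorDimLE B (m + n) M := by
  intro N _ _ p hp
  refine Module.subsingleton_of_localization_maximal
    (fun q [_] => Localization.AtPrime q ⊗[B] DRing.Tor B p M N)
    (fun q [_] => TensorProduct.mk B (Localization.AtPrime q) _ 1) fun q _ => ?_
  refine Groth.L07.CMInterAlg.subsingleton_tensor_tor (Localization.AtPrime q) M N p ?_
  suffices hL : DRing.HasTorDimLE (Localization.AtPrime q) (m + n) (Localization.AtPrime q ⊗[B] M) from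
    hL _ p hp
  obtain ⟨t, htq, ht⟩ := exists_std n hn q
  let L := Localization.AtPrime q
  have hu : IsUnit (algebraMap B L t) := IsLocalization.map_units L (⟨t, htq⟩ : q.primeCompl)
  letI : Algebra (Localization.Away t) L := (IsLocalization.Away.lift t hu).toAlgebra
  haveI : IsScalarTower B (Localization.Away t) L :=
    IsScalarTower.of_algebraMap_eq fun b => (IsLocalization.Away.lift_eq t hu b).symm
  haveI : IsScalarTower A (Localization.Away t) L := IsScalarTower.of_algebraMap_eq fun a => by
    rw [IsScalarTower.algebraMap_apply A B (Localization.Away t), ← IsScalarTower.algebraMap_apply B (Localization.Away t) L,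
      ← IsScalarTower.algebraMap_apply A B L]
  haveI : IsLocalization (q.primeCompl.map (algebraMap B (Localization.Away t))) L :=
    IsLocalization.isLocalization_of_submonoid_le (Localization.Away t) L (Submonoid.powers t) q.primeCompl
      (by rw [Submonoid.powers_le]; exact htq)
  haveI : IsLocalization (⊥ : Submonoid A) A := IsLocalization.self bot_le
  haveI : Module.Flat B L := IsLocalization.flat L q.primeCompl
  let X := L ⊗[B] M
  let C : DRing.Cx L := (HomologicalComplex.single (ModuleCat.{u} L) (ComplexShape.up ℤ) 0).obj (ModuleCat.of L X)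
  let G := ModuleCat.restrictScalars.{u} (algebraMap A L)
  let eX : G.obj (ModuleCat.of L X) ≅ ModuleCat.of A X :=
    LinearEquiv.toModuleIso (X₁ := G.obj (ModuleCat.of L X))
      { AddEquiv.refl X with map_smul' := fun a x => algebraMap_smul L a (show X from x) }
  have hA : DRing.HasTorAmplitudeIn A (-(m : ℤ)) 0 (DRing.toD (Groth.L20.TorAmp.res (A := A) C)) :=
    Groth.L10.DR.amp_of_iso
      (((DerivedCategory.singleFunctorIsoCompQ (ModuleCat.{u} A) 0).app (ModuleCat.of A X)) ≪≫
        (DerivedCategory.Q.mapIso (((HomologicalComplex.singleMapHomologicalComplex G (ComplexShape.up ℤ) 0).app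
          (ModuleCat.of L X)) ≪≫ (HomologicalComplex.single (ModuleCat.{u} A) (ComplexShape.up ℤ) 0).mapIso eX)).symm)
      ((Groth.L10.DR.hasTorDimLE_iff_amp m).1 (hasTorDimLE_flat_tensor L M m h))
  have hB := Groth.Lead.SmoothAmp.amp_localization_smooth (A := A) (B := Localization.Away t) (Ap := A) n
    (⊥ : Submonoid A) (q.primeCompl.map (algebraMap B (Localization.Away t))) (-(m : ℤ)) 0 C hA
  refine (Groth.L10.DR.hasTorDimLE_iff_amp (m + n)).2 (Groth.L10.DR.amp_of_iso
    (((DerivedCategory.singleFunctorIsoCompQ (ModuleCat.{u} L) 0).app (ModuleCat.of L X))).symm ?_)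
  exact Groth.L10.DR.amp_mono hB (by push_cast; omega) le_rfl

end Groth.L19.LocInt
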